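/-
Reduced norms and reduced characteristic polynomials of central simple algebras, computed in representations
over an algebraic closure.
-/
import Groth.Agent.Brauer.SplitField
import Groth.Agent.S8137
import Groth.Prelude.Def_GSzCSA

set_option autoImplicit false
set_option linter.style.haveILetI false

universe u v w

open TensorProduct Matrix Polynomial

noncomputable section

namespace Groth.Agent.RedNorm

theorem charpoly_blockDiagonal {R : Type*} [CommRing R] {m o : Type*} [Fintype m] [DecidableEq m] [Fintype o]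
    [DecidableEq o] (M : o → Matrix m m R) :
    (Matrix.blockDiagonal M).charpoly = ∏ i, (M i).charpoly := by
  rw [Matrix.charpoly, show (Matrix.blockDiagonal M).charmatrix = Matrix.blockDiagonal fun i => (M i).charmatrix from ?_,
    Matrix.det_blockDiagonal]
  · rfl
  ext ⟨i, k⟩ ⟨j, l⟩
  simp only [Matrix.charmatrix_apply, Matrix.blockDiagonal_apply, Matrix.diagonal_apply, Prod.mk.injEq]
  split_ifs <;> simp_all

theorem monic_pow_injective {L : Type*} [Field L] [IsAlgClosed L] {P Q : L[X]} (hP : P.Monic) (hQ : Q.Monic) {n : ℕ}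
    (hn : n ≠ 0) (h : P ^ n = Q ^ n) : P = Q := by
  classical
  have hr : P.roots = Q.roots := by
    have h1 := congrArg Polynomial.roots h
    rw [Polynomial.roots_pow, Polynomial.roots_pow] at h1
    refine Multiset.ext.mpr fun x => ?_
    have := congrArg (Multiset.count x) h1
    simpa [Multiset.count_nsmul, hn] using this
  rw [(IsAlgClosed.splits P).eq_prod_roots_of_monic hP, (IsAlgClosed.splits Q).eq_prod_roots_of_monic hQ, hr]

variable {k : Type u} [Field k] {A : Type v} [Ring A] [Algebra k A] [Algebra.IsCentral k A] [IsSimpleRing A]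
  [FiniteDimensional k A] {n : ℕ}

omit [Algebra.IsCentral k A] [IsSimpleRing A] in
theorem ne_zero_of_degree [Nontrivial A] (hn : Module.finrank k A = n ^ 2) : n ≠ 0 := by
  rintro rfl
  have : 0 < Module.finrank k A := Module.finrank_pos
  simp [hn] at this

section Ext

variable {L : Type w} [Field L] [Algebra k L] (g : A →ₐ[k] Matrix (Fin n) (Fin n) L)

/-- the extension of scalars of a representation -/
def ext : L ⊗[k] A →ₐ[L] Matrix (Fin n) (Fin n) L :=
  Algebra.TensorProduct.lift (Algebra.ofId L _) g fun s _ => Algebra.commutes s _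

omit [Algebra.IsCentral k A] [IsSimpleRing A] [FiniteDimensional k A] in
theorem ext_tmul (s : L) (a : A) : ext g (s ⊗ₜ[k] a) = s • g a := by
  rw [ext, Algebra.TensorProduct.lift_tmul, Algebra.smul_def]; rfl

omit [Algebra.IsCentral k A] [IsSimpleRing A] [FiniteDimensional k A] in
theorem ext_one_tmul (a : A) : ext g (1 ⊗ₜ[k] a) = g a := by rw [ext_tmul, one_smul]

theorem ext_bijective (hn : Module.finrank k A = n ^ 2) : Function.Bijective (ext g) := by
  haveI := Azumaya.isAzumaya_of_csa k A
  haveI := Azumaya.isAzumaya_baseChange (R := k) (A := A) L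
  obtain ⟨-, hs⟩ := Azumaya.csa_of_isAzumaya L (L ⊗[k] A)
  haveI := hs
  haveI : NeZero n := ⟨ne_zero_of_degree hn⟩
  have hinj : Function.Injective (ext g) := RingHom.injective (ext g).toRingHom
  refine ⟨hinj, (LinearMap.injective_iff_surjective_of_finrank_eq_finrank (f := (ext g).toLinearMap) ?_).mp hinj⟩
  rw [Module.finrank_baseChange, hn, Module.finrank_matrix, Module.finrank_self, Fintype.card_fin, mul_one, sq]

/-- the splitting attached to a representation -/
def extEquiv (hn : Module.finrank k A = n ^ 2) : L ⊗[k] A ≃ₐ[L] Matrix (Fin n) (Fin n) L :=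
  AlgEquiv.ofBijective (ext g) (ext_bijective g hn)

theorem extEquiv_one_tmul (hn : Module.finrank k A = n ^ 2) (a : A) : extEquiv g hn (1 ⊗ₜ[k] a) = g a :=
  ext_one_tmul g a

/-- The characteristic polynomial does not depend on the representation. -/
theorem charpoly_unique (hn : Module.finrank k A = n ^ 2) (g' : A →ₐ[k] Matrix (Fin n) (Fin n) L) (a : A) :
    (g a).charpoly = (g' a).charpoly := by
  let γ : Matrix (Fin n) (Fin n) L →ₐ[L] Matrix (Fin n) (Fin n) L := (ext g).comp (extEquiv g' hn).symm.toAlgHom
  have h := S8137.charpoly_algHom γ (g' a)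
  have h1 : γ (g' a) = g a := by
    show ext g ((extEquiv g' hn).symm (g' a)) = _
    rw [← extEquiv_one_tmul g' hn, AlgEquiv.symm_apply_apply, ext_one_tmul]
  rw [h1] at h
  simpa using h

/-- The characteristic polynomial of left multiplication. -/
theorem charpoly_mulLeft (hn : Module.finrank k A = n ^ 2) (a : A) :
    (LinearMap.mulLeft k a).charpoly.map (algebraMap k L) = (g a).charpoly ^ n := by
  let e := (extEquiv g hn).toLinearEquiv
  have he : e.conj ((LinearMap.mulLeft k a).baseChange L) = LinearMap.mulLeft L (g a) := by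
    refine LinearMap.ext fun M => ?_
    obtain ⟨z, rfl⟩ := e.surjective M
    rw [LinearEquiv.conj_apply_apply, LinearEquiv.symm_apply_apply, LinearMap.mulLeft_apply]
    induction z with
    | zero => simp
    | add x y hx hy => simp only [map_add, hx, hy, mul_add]
    | tmul c x =>
      show ext g (c ⊗ₜ (a * x)) = g a * ext g (c ⊗ₜ x)
      rw [ext_tmul, ext_tmul, map_mul, mul_smul_comm]
  rw [← LinearMap.charpoly_baseChange, ← LinearEquiv.charpoly_conj e, he,
    ← LinearMap.charpoly_toMatrix _ (Matrix.stdBasis L (Fin n) (Fin n)),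
    show LinearMap.toMatrix (Matrix.stdBasis L (Fin n) (Fin n)) (Matrix.stdBasis L (Fin n) (Fin n))
      (LinearMap.mulLeft L (g a)) = Matrix.blockDiagonal fun _ : Fin n => g a from ?_, charpoly_blockDiagonal,
    Finset.prod_const, Finset.card_univ, Fintype.card_fin]
  ext ⟨i, j⟩ ⟨i', j'⟩
  rw [LinearMap.toMatrix_apply, Matrix.blockDiagonal_apply, Matrix.stdBasis_eq_single, LinearMap.mulLeft_apply]
  show (g a * Matrix.single i' j' (1 : L)) i j = _
  by_cases h : j = j'
  · subst h; rw [Matrix.mul_single_apply_same, mul_one, if_pos rfl]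
  · rw [Matrix.mul_single_apply_of_ne _ _ _ _ _ h, if_neg h]

end Ext

/-- representations over an algebraic closure -/
theorem exists_rep (hn : Module.finrank k A = n ^ 2) :
    Nonempty (A →ₐ[k] Matrix (Fin n) (Fin n) (AlgebraicClosure k)) := by
  let L := AlgebraicClosure k
  haveI := Azumaya.isAzumaya_of_csa k A
  haveI := Azumaya.isAzumaya_baseChange (R := k) (A := A) L
  obtain ⟨_, _⟩ := Azumaya.csa_of_isAzumaya L (L ⊗[k] A)
  obtain ⟨m, -, ⟨e⟩⟩ := Azumaya.matrix_of_isSepClosed L (L ⊗[k] A)
  obtain rfl : m = n := Nat.pow_left_injective two_ne_zero (by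
    show m ^ 2 = n ^ 2
    rw [← hn, ← Module.finrank_baseChange (R := L) (S := k) (M' := A), e.toLinearEquiv.finrank_eq,
      Module.finrank_matrix, Fintype.card_fin, Module.finrank_self, mul_one, sq])
  exact ⟨(e.toAlgHom.restrictScalars k).comp Algebra.TensorProduct.includeRight⟩

theorem exists_embedding (hn : Module.finrank k A = n ^ 2) {K : Type u} [Field K] [Algebra k K] [Module.Finite k K]
    {m : ℕ} (φ : K ⊗[k] A ≃ₐ[K] Matrix (Fin m) (Fin m) K)
    (g : A →ₐ[k] Matrix (Fin n) (Fin n) (AlgebraicClosure k)) (a : A) :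
    ∃ j : K →ₐ[k] AlgebraicClosure k,
      j (φ (1 ⊗ₜ[k] a)).det = (g a).det ∧ j (φ (1 ⊗ₜ[k] a)).trace = (g a).trace := by
  obtain rfl : m = n := Nat.pow_left_injective two_ne_zero (by
    show m ^ 2 = n ^ 2
    rw [← hn, ← Module.finrank_baseChange (R := K) (S := k) (M' := A), φ.toLinearEquiv.finrank_eq,
      Module.finrank_matrix, Fintype.card_fin, Module.finrank_self, mul_one, sq])
  let j : K →ₐ[k] AlgebraicClosure k := IsAlgClosed.lift
  let g' : A →ₐ[k] Matrix (Fin m) (Fin m) (AlgebraicClosure k) :=
    j.mapMatrix.comp ((φ.toAlgHom.restrictScalars k).comp Algebra.TensorProduct.includeRight)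
  have h := charpoly_unique g' hn g a
  haveI : NeZero m := ⟨ne_zero_of_degree hn⟩
  refine ⟨j, ?_, ?_⟩
  · rw [Matrix.det_eq_sign_charpoly_coeff (g a), ← h, ← Matrix.det_eq_sign_charpoly_coeff]
    exact j.toRingHom.map_det _
  · rw [Matrix.trace_eq_neg_charpoly_coeff (g a), ← h, ← Matrix.trace_eq_neg_charpoly_coeff]
    exact map_sum j _ _

variable {N : A →* k} {T : A →+ k}

/-- The reduced norm in a representation. -/
theorem redNorm_spec (hn : Module.finrank k A = n ^ 2) (hN : CSAGal.IsRedNorm k A N)
    (g : A →ₐ[k] Matrix (Fin n) (Fin n) (AlgebraicClosure k)) (a : A) :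
    (g a).det = algebraMap k _ (N a) := by
  obtain ⟨K, _, _, _, m, φ, hφ⟩ := hN
  obtain ⟨j, hj, -⟩ := exists_embedding hn φ g a
  rw [← hj, ← hφ, AlgHom.commutes]

/-- The reduced trace in a representation. -/
theorem redTrace_spec (hn : Module.finrank k A = n ^ 2) (hT : CSAGal.IsRedTrace k A T)
    (g : A →ₐ[k] Matrix (Fin n) (Fin n) (AlgebraicClosure k)) (a : A) :
    (g a).trace = algebraMap k _ (T a) := by
  obtain ⟨K, _, _, _, m, φ, hφ⟩ := hT
  obtain ⟨j, -, hj⟩ := exists_embedding hn φ g a
  rw [← hj, ← hφ, AlgHom.commutes]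

/-- `N` is the determinant in every representation over the algebraic closure -/
def IsNrd (n : ℕ) (N : A →* k) : Prop :=
  ∀ (g : A →ₐ[k] Matrix (Fin n) (Fin n) (AlgebraicClosure k)) (a : A), (g a).det = algebraMap k _ (N a)

theorem isNrd_of_isRedNorm (hn : Module.finrank k A = n ^ 2) (hN : CSAGal.IsRedNorm k A N) : IsNrd n N :=
  fun g a => redNorm_spec hn hN g a

/-- The reduced norm exists. -/
theorem exists_nrd (hn : Module.finrank k A = n ^ 2) : ∃ N : A →* k, IsNrd n N := by
  obtain ⟨g⟩ := exists_rep hn
  let ι := algebraMap k (AlgebraicClosure k)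
  have hex : ∀ a, ∃ c : k, ι c = (g a).det := by
    intro a
    have h11 := S8137.agree k A a n (AlgebraicClosure k) (extEquiv g hn) (AlgebraicClosure k) (extEquiv g hn)
    rw [extEquiv_one_tmul] at h11
    refine (Algebra.IsEffective.of_faithfullyFlat k (AlgebraicClosure k) _).1 ?_
    show Algebra.TensorProduct.includeLeftSubRight k (AlgebraicClosure k) _ = 0
    rw [Algebra.TensorProduct.includeLeftSubRight_apply, sub_eq_zero]
    have hc := congrArg (fun P => Polynomial.coeff P 0) h11
    simp only [Polynomial.coeff_map] at hc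
    rw [Matrix.det_eq_sign_charpoly_coeff, Fintype.card_fin]
    rcases neg_one_pow_eq_or (AlgebraicClosure k) n with h | h <;> rw [h]
    · rw [one_mul]; exact hc
    · rw [neg_one_mul]
      exact (TensorProduct.neg_tmul _ _).trans ((congrArg Neg.neg hc).trans (TensorProduct.tmul_neg _ _).symm)
  choose f hf using hex
  have hinj : Function.Injective ι := ι.injective
  refine ⟨⟨⟨f, hinj (by rw [hf, map_one, Matrix.det_one, map_one])⟩,
    fun a b => hinj (by rw [hf, map_mul, Matrix.det_mul, map_mul, hf, hf])⟩, fun g' a => ?_⟩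
  show _ = ι (f a)
  rw [hf, Matrix.det_eq_sign_charpoly_coeff, Matrix.det_eq_sign_charpoly_coeff (g a), charpoly_unique g' hn g a]

/-- Invertibility is detected by the reduced norm. -/
theorem isUnit_iff_nrd (hn : Module.finrank k A = n ^ 2) (hN : IsNrd n N) (a : A) : IsUnit a ↔ N a ≠ 0 := by
  refine ⟨fun h => (h.map N).ne_zero, fun h => ?_⟩
  obtain ⟨g⟩ := exists_rep hn
  haveI : NeZero n := ⟨ne_zero_of_degree hn⟩
  have hu : IsUnit (g a) := (Matrix.isUnit_iff_isUnit_det _).mpr (by
    rw [hN g]; exact (isUnit_iff_ne_zero.mpr h).map _)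
  have hinj : Function.Injective (LinearMap.mulLeft k a) := fun x y hxy => by
    have h1 : g a * g x = g a * g y := by rw [← map_mul, ← map_mul]; exact congrArg g hxy
    exact RingHom.injective g.toRingHom (hu.mul_left_cancel h1)
  obtain ⟨b, hb⟩ := (LinearMap.injective_iff_surjective.mp hinj) 1
  exact ⟨⟨a, b, hb, hinj (by
    show a * (b * a) = a * 1
    rw [← mul_assoc, show a * b = 1 from hb, one_mul, mul_one])⟩, rfl⟩

section Subfield

variable {K : Type w} [Field K] [Algebra k K] [FiniteDimensional k K]

/-- A subfield of the degree computes the characteristic polynomial. -/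
theorem charpoly_subfield (hn : Module.finrank k A = n ^ 2) (hK : Module.finrank k K = n) (ι : K →ₐ[k] A)
    (g : A →ₐ[k] Matrix (Fin n) (Fin n) (AlgebraicClosure k)) (x : K) :
    (g (ι x)).charpoly = (Algebra.lmul k K x).charpoly.map (algebraMap k _) := by
  classical
  have hn0 := ne_zero_of_degree hn
  letI : Module K A := Module.compHom A ι.toRingHom
  haveI : IsScalarTower k K A := IsScalarTower.of_algebraMap_smul fun r y => by
    show ι (algebraMap k K r) * y = r • y
    rw [AlgHom.commutes, Algebra.smul_def]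
  haveI : Module.Finite K A := Module.Finite.of_restrictScalars_finite k K A
  let bK := Module.finBasis k K
  let bA := Module.finBasis K A
  have hr : Module.finrank K A = n := by
    have h := Module.finrank_mul_finrank k K A
    rw [hK, hn, sq] at h
    exact Nat.eq_of_mul_eq_mul_left (Nat.pos_of_ne_zero hn0) h
  have h1 : (LinearMap.mulLeft k (ι x)).charpoly = (Algebra.lmul k K x).charpoly ^ n := by
    rw [← LinearMap.charpoly_toMatrix _ (bK.smulTower bA),
      show LinearMap.toMatrix (bK.smulTower bA) (bK.smulTower bA) (LinearMap.mulLeft k (ι x)) =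
        Matrix.blockDiagonal fun _ => LinearMap.toMatrix bK bK (Algebra.lmul k K x) from ?_,
      charpoly_blockDiagonal, Finset.prod_const, Finset.card_univ, Fintype.card_fin, hr,
      LinearMap.charpoly_toMatrix]
    ext ⟨i, j⟩ ⟨i', j'⟩
    rw [LinearMap.toMatrix_apply, Matrix.blockDiagonal_apply, Module.Basis.smulTower_apply, LinearMap.mulLeft_apply,
      show ι x * (bK i' • bA j') = (x * bK i') • bA j' from (mul_assoc (ι x) _ _).symm.trans (by
        show _ = ι (x * bK i') * bA j'
        rw [map_mul]; rfl),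
      Module.Basis.smulTower_repr, map_smul, Finsupp.smul_apply, Module.Basis.repr_self, smul_eq_mul,
      Finsupp.single_apply, LinearMap.toMatrix_apply]
    by_cases h : j = j'
    · subst h; simp
    · rw [if_neg (Ne.symm h), if_neg h, mul_zero, map_zero]; rfl
  refine monic_pow_injective (Matrix.charpoly_monic _) ((LinearMap.charpoly_monic _).map _) hn0 ?_
  rw [← charpoly_mulLeft g hn, h1, Polynomial.map_pow]

/-- The reduced norm on a subfield of the degree. -/
theorem nrd_subfield (hn : Module.finrank k A = n ^ 2) (hK : Module.finrank k K = n) (hN : IsNrd n N)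
    (ι : K →ₐ[k] A) (x : K) : N (ι x) = Algebra.norm k x := by
  obtain ⟨g⟩ := exists_rep hn
  apply (algebraMap k (AlgebraicClosure k)).injective
  rw [← hN g, Matrix.det_eq_sign_charpoly_coeff, charpoly_subfield hn hK ι g, Polynomial.coeff_map,
    Fintype.card_fin, Algebra.norm_apply, LinearMap.det_eq_sign_charpoly_coeff, hK, map_mul, map_pow, map_neg, map_one]

end Subfield

end Groth.Agent.RedNorm
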